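import Groth.Agent.Lib.PosLin.AsympRank
import Groth.Agent.Lib.Exchange.RelVanish
import Groth.Agent.Lib.Ample.RelAmple
import Groth.Agent.Lib.Cyc.PP.FinStalk
import Groth.Agent.H97.PushInt

/-!
# Asymptotic cohomology of pullbacks along generically finite morphisms
-/

set_option autoImplicit false
set_option linter.style.haveILetI false
set_option linter.unusedSectionVars false
universe u

open CategoryTheory CategoryTheory.Limits AlgebraicGeometry TopologicalSpace Filter

namespace Groth.Agent.Lib.GenFinite96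

open Groth.Agent.Lib Groth.Agent.Lib.Snapper Groth.Agent.Lib.PosLin Groth.Agent.Lib.PosLin.CohBound
  Groth.Agent.Lib.PosLin.Asymp Groth.Agent.Lib.PosLin.AsympTwist
open Groth.Agent.Lib.TensorMod.Basic (comm assoc tensorIso leftUnit rightUnit)
open Groth.Agent.Lib.TensorMod.Invertible (isInvertible_tensorPow isInvertible_tensorMod)
open Groth.Agent.Lib.PosLin.SectionBound (isCoh_twist_right)
open Groth.Agent.Lib.Modules.StalkModule (stalkMapₗ stalkMapₗ_comp stalkMapₗ_germ)

/-- `m ↦ dim H^i(M^m)`. -/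
noncomputable abbrev hd_of (k : Type u) [Field k] (Y : Scheme.{u})
    [Y.Over (Spec (CommRingCat.of k))] (M : Y.Modules) (i m : ℕ) : ℕ :=
  hd k Y (CohB1.tensorPow M m) i

variable {k : Type u} [Field k] {X Y : Scheme.{u}} [X.Over (Spec (CommRingCat.of k))]
  [Y.Over (Spec (CommRingCat.of k))] [IsProper (X ↘ Spec (CommRingCat.of k))]
  [IsProper (Y ↘ Spec (CommRingCat.of k))]

include k in
/-- Acyclicity on the preimage of an open survives twisting by a module trivial on that open. -/
theorem subsingleton_twist (f : Y ⟶ X) {P : X.Modules} {G : Y.Modules} {W : X.Opens}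
    (i : P.restrict W.ι ≅ Coh.structureModule (W : Scheme.{u})) (n : ℕ)
    (h : Subsingleton (CohTop.HU (Coh.toAb G) n (f ⁻¹ᵁ W))) :
    Subsingleton (CohTop.HU (Coh.toAb (CohB1.tensorMod ((Scheme.Modules.pullback f).obj P) G)) n (f ⁻¹ᵁ W)) := by
  let V := f ⁻¹ᵁ W
  letI : (V : Scheme.{u}).Over (Spec (CommRingCat.of k)) := ⟨V.ι ≫ (Y ↘ Spec (CommRingCat.of k))⟩
  have hGV : Subsingleton (Coh.HH (V : Scheme.{u}) (G.restrict V.ι) n) := by
    have : Subsingleton (CohTop.HU (Coh.toAb G) n (V.ι ''ᵁ ⊤)) := by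
      rw [Scheme.Opens.ι_image_top]; exact h
    exact (ZarCoh.Morph.openEquiv V.ι G n).toEquiv.subsingleton
  let e1 : ((Scheme.Modules.pullback f).obj P).restrict V.ι ≅ Coh.structureModule (V : Scheme.{u}) :=
    (Scheme.Modules.restrictFunctorIsoPullback V.ι).app _ ≪≫
      (Scheme.Modules.pullbackComp V.ι f).app P ≪≫
      (Scheme.Modules.pullbackCongr (morphismRestrict_ι f W).symm).app P ≪≫
      ((Scheme.Modules.pullbackComp (f ∣_ W) W.ι).app P).symm ≪≫
      (Scheme.Modules.pullback (f ∣_ W)).mapIso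
        (((Scheme.Modules.restrictFunctorIsoPullback W.ι).app P).symm ≪≫ i) ≪≫
      PicLoc.pullbackStructureIso _
  let e : (CohB1.tensorMod ((Scheme.Modules.pullback f).obj P) G).restrict V.ι ≅ G.restrict V.ι :=
    TensorMod.Pullback.restrictTensorIso V.ι _ _ ≪≫ tensorIso e1 (Iso.refl _) ≪≫ leftUnit _
  haveI := hGV
  haveI : Subsingleton (Coh.HH (V : Scheme.{u}) ((CohB1.tensorMod ((Scheme.Modules.pullback f).obj P) G).restrict V.ι) n) :=
    (Curves.LES.isoK k e n).toEquiv.subsingleton
  have h5 := (ZarCoh.Morph.openEquiv V.ι (CohB1.tensorMod ((Scheme.Modules.pullback f).obj P) G) n).symm.toEquiv.subsingleton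
  rwa [Scheme.Opens.ι_image_top] at h5

variable (f : Y ⟶ X) [IsProper f]
  (hf : f ≫ (X ↘ Spec (CommRingCat.of k)) = Y ↘ Spec (CommRingCat.of k))

set_option maxHeartbeats 1000000 in
include hf in
/-- Large powers of an ample module have no higher direct images, even after twists from below. -/
theorem exists_hd_push {B : Y.Modules} (hB : CohB1.IsAmple B) :
    ∃ N : ℕ, ∀ (P : X.Modules), PicF.IsInvertible P → ∀ i : ℕ,
      hd k Y (CohB1.tensorMod ((Scheme.Modules.pullback f).obj P) (CohB1.tensorPow B N)) i =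
        hd k X (CohB1.tensorMod P ((Coh.push f).obj (CohB1.tensorPow B N))) i := by
  classical
  haveI := Curves.GlobalSections.isNoetherian_of_proper k X
  haveI := Curves.GlobalSections.isNoetherian_of_proper k Y
  have hrel : RelAmple.IsRelAmple f B := by
    refine Ample.RelAmple.isRelAmple_of_comp f (X ↘ Spec (CommRingCat.of k)) ?_
    rw [hf]
    exact (Ample.RelAmple.isRelAmple_iff_isAmple _).2 hB
  choose V hV hxV using fun x : X =>
    (exists_isAffineOpen_mem_and_subset (X := X) (x := x) (U := ⊤) trivial).imp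
      fun V hV => And.intro hV.1 hV.2.1
  obtain ⟨T, hT⟩ := isCompact_univ.elim_finite_subcover (fun x => (V x : Set X))
    (fun x => (V x).2) fun x _ => Set.mem_iUnion.2 ⟨x, hxV x⟩
  have hO := Twist.isCoh_structureModule Y
  have hn : ∀ x : X, ∃ n₀ : ℕ, ∀ n, n₀ ≤ n → ∀ q : ℕ, Subsingleton (Coh.HH _
      ((CohB1.tensorPow B n).restrict (f ⁻¹ᵁ V x).ι) (q + 1)) := fun x => by
    haveI : IsNoetherianRing Γ(X, V x) := IsLocallyNoetherian.component_noetherian ⟨V x, hV x⟩
    letI : (f ⁻¹ᵁ V x : Scheme.{u}).Over (Spec (CommRingCat.of Γ(X, V x))) :=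
      ⟨Exchange.RelVanish.overA f (hV x)⟩
    haveI : IsProper (f ∣_ V x) :=
      MorphismProperty.of_isPullback (P := @IsProper) (isPullback_morphismRestrict f (V x)).flip
        inferInstance
    haveI : IsProper ((f ⁻¹ᵁ V x : Scheme.{u}) ↘ Spec (CommRingCat.of Γ(X, V x))) :=
      inferInstanceAs (IsProper (Exchange.RelVanish.overA f (hV x)))
    obtain ⟨n₀, hn₀⟩ := Groth.Agent.H78.Existence.AmpleVanish.exists_subsingleton Γ(X, V x)
      (hrel.2 ⟨V x, hV x⟩)
      (Twist.isCoh_structureModule (f ⁻¹ᵁ V x : Scheme.{u}))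
    refine ⟨n₀, fun n hn q => ?_⟩
    haveI := hn₀ n hn q
    exact (Curves.LES.isoK Γ(X, V x) (Ample.Pow.restrictPow _ B n ≪≫ (leftUnit _).symm) (q + 1)).toEquiv.subsingleton
  choose n₀ hn₀ using hn
  refine ⟨T.sup n₀, fun P hP i => ?_⟩
  have hBN := Ample.GG.isCoh_of_isInvertible (isInvertible_tensorPow hB.1 (T.sup n₀))
  haveI := hBN.1
  have hG := Twist.isCoh_twist (PicLoc.isInvertible_pullback f hP) hBN
  have hbasis : Opens.IsBasis {W : X.Opens | (∃ x ∈ T, IsAffineOpen W ∧ W ≤ V x) ∧
      Nonempty (P.restrict W.ι ≅ Coh.structureModule (W : Scheme.{u}))} := by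
    refine Opens.isBasis_iff_nbhd.2 fun {U y} hy => ?_
    obtain ⟨x, hx, hyx⟩ := Set.mem_iUnion₂.1 (hT (Set.mem_univ y))
    obtain ⟨U₀, hyU₀, ⟨j⟩⟩ := hP y
    obtain ⟨W, hW, hyW, hle⟩ := exists_isAffineOpen_mem_and_subset (U := U ⊓ V x ⊓ U₀) (x := y) ⟨⟨hy, hyx⟩, hyU₀⟩
    have hWU : W ≤ U₀ := fun z hz => (hle hz).2
    refine ⟨W, ⟨⟨x, hx, hW, fun z hz => (hle hz).1.2⟩, ⟨?_⟩⟩, hyW, fun z hz => (hle hz).1.1⟩
    exact (Scheme.Modules.restrictFunctorCongr (X.homOfLE_ι hWU)).symm.app P ≪≫
      (Scheme.Modules.restrictFunctorComp (X.homOfLE hWU) U₀.ι).app P ≪≫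
      (Scheme.Modules.restrictFunctor (X.homOfLE hWU)).mapIso j ≪≫
      ((Scheme.Modules.restrictFunctorIsoPullback _).app _ ≪≫ PicLoc.pullbackStructureIso _)
  let E : Coh.HH X ((Coh.push f).obj (CohB1.tensorMod ((Scheme.Modules.pullback f).obj P) (CohB1.tensorPow B (T.sup n₀)))) i ≃+
      Coh.HH Y (CohB1.tensorMod ((Scheme.Modules.pullback f).obj P) (CohB1.tensorPow B (T.sup n₀))) i :=
    ZarCoh.PushH.pushEquiv f.base hbasis (Coh.toAb _) (fun W ⟨⟨x, hx, hW, hWV⟩, ⟨j⟩⟩ q => by
      haveI := hG.1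
      exact subsingleton_twist (k := k) f j (q + 1)
        (Exchange.RelVanish.subsingleton_preimage_of_le f _ (hV x) hW hWV (q + 1)
          (hn₀ x _ (Finset.le_sup hx) q))) i
  let El : Coh.HH X ((Coh.push f).obj (CohB1.tensorMod ((Scheme.Modules.pullback f).obj P) (CohB1.tensorPow B (T.sup n₀)))) i ≃ₗ[k]
      Coh.HH Y (CohB1.tensorMod ((Scheme.Modules.pullback f).obj P) (CohB1.tensorPow B (T.sup n₀))) i :=
    { E with
      map_smul' := fun a x => ZarCoh.Morph.pushH_smul f _ i _ _ (ZarCoh.Linear.toGlobal_comp f hf a) x }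
  have hE := Modules.DualBasis.hasDBases_of_isFinLocFree (TensorMod.LocFree.of_rank
    (TensorMod.LocFree.of_isInvertible hP))
  exact El.finrank_eq.symm.trans
    (hd_congr (k := k) ((Modules.ProjFormula.projIso f (E := P) hE).app _) i).symm

variable [IsIntegral X] [IsIntegral Y]

include hf in
/-- The generic point of the source has the dimension of the target. -/
theorem pdim_generic (hdom : f (genericPoint Y) = genericPoint X) (hdeg : f.residueDegree (genericPoint Y) ≠ 0) :
    VarDim.Basic.pdim (X ↘ Spec (CommRingCat.of k)) (genericPoint X) =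
      VarDim.Basic.pdim (Y ↘ Spec (CommRingCat.of k)) (genericPoint Y) := by
  rw [← hdom]
  by_contra h
  exact hdeg (H97.PushInt.residueDegree_eq_zero _ _ f hf h)

include hf in
theorem dim_eq (hdom : f (genericPoint Y) = genericPoint X) (hdeg : f.residueDegree (genericPoint Y) ≠ 0)
    {d : ℕ} (hd : topologicalKrullDim X = d) : topologicalKrullDim Y = d := by
  have h1 := VarDim.Basic.topologicalKrullDim_isGenericPoint (X ↘ Spec (CommRingCat.of k)) (genericPoint_spec X)
  have h2 := VarDim.Basic.topologicalKrullDim_isGenericPoint (Y ↘ Spec (CommRingCat.of k)) (genericPoint_spec Y)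
  rw [(Homeomorph.Set.univ _).isHomeomorph.topologicalKrullDim_eq] at h1 h2
  rw [h2, ← pdim_generic f hf hdom hdeg, ← h1, hd]

include hf in
/-- The generic rank of the direct image of an invertible module is the degree. -/
theorem finrank_push_stalk (hdom : f (genericPoint Y) = genericPoint X) {n : ℕ}
    (hn : f.residueDegree (genericPoint Y) = n) (hn0 : n ≠ 0) {G : Y.Modules} (hG : PicF.IsInvertible G) :
    Module.finrank (X.presheaf.stalk (genericPoint X)) (((Coh.push f).obj G).presheaf.stalk (genericPoint X)) = n := by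
  haveI := Curves.GlobalSections.isNoetherian_of_proper k X
  haveI := Curves.GlobalSections.isNoetherian_of_proper k Y
  let pX := X ↘ Spec (CommRingCat.of k)
  let pY := Y ↘ Spec (CommRingCat.of k)
  let N := VarDim.Basic.pdim pY (genericPoint Y)
  have hGc := Ample.GG.isCoh_of_isInvertible hG
  have hle : _root_.Cyc.CohLe (Cyc.FieldDim.fdelta pY) (N : ℤ) G := ⟨hGc, fun w _ => by
    rw [VarDim.Basic.fdelta_eq]
    exact_mod_cast VarDim.Basic.pdim_le pY ((genericPoint_spec Y).specializes (Set.mem_univ w))⟩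
  have hlen : Module.length (X.presheaf.stalk (genericPoint X))
      (((Coh.push f).obj G).presheaf.stalk (genericPoint X)) = n := by
    have hone : Module.length (Y.presheaf.stalk (genericPoint Y)) (G.presheaf.stalk (genericPoint Y)) = 1 := by
      rw [← (Modules.StalkModule.stalkLinearEquiv (rightUnit G) (genericPoint Y)).length_eq,
        Twist.length_twist hG, (SurfInt.Stalk.oStalk (genericPoint Y)).length_eq]
      letI : Field (Y.presheaf.stalk (genericPoint Y)) := inferInstanceAs (Field Y.functionField)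
      exact Module.length_eq_one _ _
    rw [Cyc.PP.FinStalk.length_push f G (Cyc.FieldDim.isDimFun_fdelta pY)
      (H97.PushInt.deltaCompat pX pY f hf) hle
      (by rw [VarDim.Basic.fdelta_eq, pdim_generic f hf hdom (hn ▸ hn0)]),
      Finset.sum_eq_single (genericPoint Y)]
    · rw [hone, one_mul, hn]
    · intro w hw hne
      rw [Set.Finite.mem_toFinset] at hw
      exfalso
      have h1 := Cyc.PP.Iso.delta_eq f (H97.PushInt.deltaCompat pX pY f hf) hle
        (by rw [VarDim.Basic.fdelta_eq, pdim_generic f hf hdom (hn ▸ hn0)]) hw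
      rw [VarDim.Basic.fdelta_eq] at h1
      have h2 := VarDim.Basic.pdim_lt pY ((genericPoint_spec Y).specializes (Set.mem_univ w)) (Ne.symm hne)
      omega
    · intro hw
      exfalso
      refine hw ((Set.Finite.mem_toFinset _).2 ⟨hdom, not_subsingleton_iff_nontrivial.1 fun hs => ?_⟩)
      rw [Module.length_eq_zero] at hone
      exact zero_ne_one hone
  letI : Field (X.presheaf.stalk (genericPoint X)) := inferInstanceAs (Field X.functionField)
  rw [Module.length_eq_rank] at hlen
  exact Module.finrank_eq_of_rank_eq (Cardinal.toENat_eq_nat.mp hlen)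

include hf in
/-- **Pullback along a generically finite morphism.** -/
theorem exists_near {A L : X.Modules} {B : Y.Modules} (hA : CohB1.IsAmple A) (hB : CohB1.IsAmple B)
    (hL : PicF.IsInvertible L) {d : ℕ} (hd : topologicalKrullDim X = d)
    (hdom : f (genericPoint Y) = genericPoint X) {n : ℕ}
    (hn : f.residueDegree (genericPoint Y) = n) (hn0 : n ≠ 0) (i : ℕ) :
    ∃ G : X.Modules, Coh.IsCoh G ∧
      Module.finrank (X.presheaf.stalk (genericPoint X)) (G.presheaf.stalk (genericPoint X)) = n ∧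
      ∃ K : ℕ, (d = 0 → K = 0) ∧ ∀ m,
        hd_of k Y ((Scheme.Modules.pullback f).obj L) i m ≤ hseq k X G L i m + K * (m + 1) ^ (d - 1) ∧
        hseq k X G L i m ≤ hd_of k Y ((Scheme.Modules.pullback f).obj L) i m + K * (m + 1) ^ (d - 1) := by
  haveI := Curves.GlobalSections.isNoetherian_of_proper k X
  haveI := Curves.GlobalSections.isNoetherian_of_proper k Y
  obtain ⟨N, hN⟩ := exists_hd_push (k := k) f hf hB
  have hfL := PicLoc.isInvertible_pullback f hL
  have hBN := isInvertible_tensorPow hB.1 N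
  have hG := Cyc.PP.Push.isCoh_push f (Ample.GG.isCoh_of_isInvertible hBN)
  obtain ⟨K, hK0, hK⟩ := near_structure (k := k) (dim_eq f hf hdom (hn ▸ hn0) hd) hB hfL hBN i
  refine ⟨_, hG, finrank_push_stalk f hf hdom hn hn0 hBN, K, hK0, fun m => ?_⟩
  have h1 : hseq k Y (Coh.structureModule Y) ((Scheme.Modules.pullback f).obj L) i m =
      hd_of k Y ((Scheme.Modules.pullback f).obj L) i m := hd_congr (k := k) (leftUnit _) i
  have h2 : hseq k Y (CohB1.tensorPow B N) ((Scheme.Modules.pullback f).obj L) i m =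
      hseq k X ((Coh.push f).obj (CohB1.tensorPow B N)) L i m :=
    ((hd_congr (k := k) (tensorIso (Iso.refl _) (Ample.Pow.pullbackPow f L m).symm ≪≫ comm _ _) i).trans
      (hN _ (isInvertible_tensorPow hL m) i)).trans (hd_congr (k := k) (comm _ _) i)
  rw [← h1, ← h2]
  exact (hK m).symm

end Groth.Agent.Lib.GenFinite96
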