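import Groth.Agent.Lib.PosLin.AsympRank

/-!
# Cohomology of twists only sees the generic rank, up to lower order
-/

set_option autoImplicit false
set_option linter.style.haveILetI false
set_option linter.unusedSectionVars false
universe u

open CategoryTheory CategoryTheory.Limits AlgebraicGeometry Filter

namespace Groth.Agent.Lib.GenFinite96.Rank

open Groth.Agent.Lib Groth.Agent.Lib.Snapper Groth.Agent.Lib.PosLin.CohBound
  Groth.Agent.Lib.PosLin.Asymp Groth.Agent.Lib.PosLin.AsympTwist Groth.Agent.Lib.PosLin.AsympRank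
open Groth.Agent.Lib.PosLin.SectionBound (isCoh_twist_right)
open Groth.Agent.Lib.TensorMod.Basic (tmap comm assoc tensorIso leftUnit rightUnit tensorFunctor)
open Groth.Agent.Lib.TensorMod.Invertible (isInvertible_tensorPow isInvertible_tensorMod)
open Groth.Agent.Lib.Modules.StalkModule (stalkMapₗ stalkMapₗ_comp stalkMapₗ_add stalkMapₗ_id
  stalkMapₗ_zero stalkMapₗ_germ)

variable {k : Type u} [Field k] {X : Scheme.{u}} [X.Over (Spec (CommRingCat.of k))]
  [IsProper (X ↘ Spec (CommRingCat.of k))] [IsIntegral X] {n : ℕ} (hn : topologicalKrullDim X = n)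

include hn

set_option maxHeartbeats 800000 in
/-- `h^i(F ⊗ L^m) = r·h^i(L^m) + O(m^{n-1})` for `F` of generic rank `r`. -/
theorem exists_bound_rank {A L F : X.Modules} (hA : CohB1.IsAmple A) (hL : PicF.IsInvertible L)
    (hF : Coh.IsCoh F) {r : ℕ}
    (hr : Module.finrank (X.presheaf.stalk (genericPoint X))
      (F.presheaf.stalk (genericPoint X)) = r) (i : ℕ) :
    ∃ K : ℕ, (n = 0 → K = 0) ∧ ∀ m,
      hseq k X F L i m ≤ r * hd k X (CohB1.tensorPow L m) i + K * (m + 1) ^ (n - 1) ∧
      r * hd k X (CohB1.tensorPow L m) i ≤ hseq k X F L i m + K * (m + 1) ^ (n - 1) := by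
  haveI := Curves.GlobalSections.isNoetherian_of_proper k X
  set η := genericPoint X
  have hO := PicLoc.isInvertible_structureModule X
  obtain ⟨n₁, hn₁⟩ := Ample.GG.eventually_genAt_twist hA F hF
  obtain ⟨n₂, hn₂⟩ := Ample.GG.eventually_genAt_twist hA (Coh.structureModule X)
    (Twist.isCoh_structureModule X)
  set N := n₁ + n₂
  have hAN := isInvertible_tensorPow hA.1 N
  set G := CohB1.tensorMod F (CohB1.tensorPow A N)
  have hG : Coh.IsCoh G := isCoh_twist_right hF hAN
  obtain ⟨t, ht⟩ := Ample.GG.exists_genLocus_of_genAt (isInvertible_tensorMod hO hAN)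
    (hn₂ N (by omega) η)
  have h1 : Near k X n L F G := Near.of_bijective (k := k) hn hA hL hF hG
    ((UnifReg.Hyperplane.mulS (t ≫ (leftUnit _).hom)).app F)
    (UnifReg.Hyperplane.bijective_stalk_mulS _
      (by rw [Ample.GenLocus.genLocus_comp_iso]; exact ht) F)
  have hgen : Ample.GG.GenAt G η := hn₁ N (by omega) η
  obtain ⟨f₀⟩ := Twist.exists_stalkEquiv_twist hAN F η
  have hrG : Module.finrank (X.presheaf.stalk η) (G.presheaf.stalk η) = r := by
    rw [← hr]
    exact ((Modules.StalkModule.stalkLinearEquiv (comm F (CohB1.tensorPow A N)) η).trans f₀).finrank_eq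
  haveI : Module.Finite (X.presheaf.stalk η) (G.presheaf.stalk η) :=
    (haveI := hG.1; haveI := hG.2; Modules.GenStalk.finite_stalk G η)
  have hgen' : Submodule.span (X.presheaf.stalk η)
      (Set.range fun t : Γ(G, ⊤) => G.presheaf.germ ⊤ η (Ample.GG.memTop η) t) = ⊤ := hgen
  obtain ⟨b, hb, hbspan, hbind⟩ :=
    exists_frame (Field.toIsField X.functionField) hrG _ hgen'
  choose s hs using hb
  obtain ⟨P, e, hP, huniv, hspan, hdim⟩ := exists_free (k := k) η r
  obtain ⟨φ, hφ⟩ := huniv G fun j => Modules.Free.unitHom G (s j)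
  have hφb : ∀ j, stalkMapₗ φ η (stalkMapₗ (e j) η (one₁ X η)) = b j := fun j => by
    rw [← LinearMap.comp_apply, ← stalkMapₗ_comp, hφ, ← hs j]
    exact (stalkMapₗ_germ _ _ _).trans
      (congrArg _ (Modules.Free.unitHom_app_one G (s j)))
  have hbij : Function.Bijective (stalkMapₗ φ η) := by
    refine ⟨(injective_iff_map_eq_zero _).2 fun v hv => ?_, fun w => ?_⟩
    · obtain ⟨c, rfl⟩ := (Submodule.mem_span_range_iff_exists_fun _).1
        (hspan.ge (Submodule.mem_top (x := v)))
      simp only [map_sum, map_smul, hφb] at hv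
      simp [hbind c hv]
    · obtain ⟨c, rfl⟩ := (Submodule.mem_span_range_iff_exists_fun _).1
        (hbspan.ge (Submodule.mem_top (x := w)))
      exact ⟨∑ j, c j • stalkMapₗ (e j) η (one₁ X η), by simp only [map_sum, map_smul, hφb]⟩
  have h2 : Near k X n L G P := (Near.of_bijective (k := k) hn hA hL hP hG φ hbij).symm
  obtain ⟨K, hK0, hK⟩ := (h1.trans h2) i
  refine ⟨K, hK0, fun m => ?_⟩
  rw [show r * hd k X (CohB1.tensorPow L m) i = hseq k X P L i m from
    (((hd_congr (k := k) (comm _ _) i).trans (hdim _ (isInvertible_tensorPow hL m) i)).trans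
      (congrArg (r * ·) (hd_congr (k := k) (rightUnit _) i))).symm]
  exact hK m

end Groth.Agent.Lib.GenFinite96.Rank
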